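import Groth.Agent.Lib.Cohom.ResolutionCompare
import Groth.Agent.Lib.Cohom.PushDerived
import Groth.Agent.Lib.QCoh.SchSupport
import Groth.Agent.Lib.QCoh.SupportExact
import Groth.Agent.Lib.ProperOver.Basic
import Groth.Agent.Lib.RelVanish.Uniform
import Groth.Agent.Lib.NormAmple.Descent
import Groth.Agent.Lib.ProjFormula.Iso
import Groth.Agent.Lib.RpushSupp20.Main
import Groth.Agent.Lib.NefGrowth.Growth
import Groth.Prelude.Def_ClSub2
import Groth.Prelude.Def_DDual2

/-!
# Twisting a sequence with proper supports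
-/

set_option autoImplicit false
set_option linter.style.haveILetI false
set_option backward.isDefEq.respectTransparency false

universe u

open CategoryTheory CategoryTheory.Limits AlgebraicGeometry TopologicalSpace Opposite

noncomputable section

namespace GrothLib.PSuppVan9

open GrothLib
open GrothLib.Euler (tF)

variable {X Y : Scheme.{u}}

theorem exists_isZero_Rpush [HasInjectiveResolutions X.Modules] (f : X ⟶ Y) [IsNoetherian Y] [LocallyOfFiniteType f]
    {L : X.Modules} (hL : PicF.IsInvertible L) (hamp : RelAmple.IsRelAmple f L) {N : X.Modules}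
    (hN : Coh.IsCoh N) (hs : ClSub.IsProperOver f (CohB1.support N)) :
    ∃ n₀ : ℕ, ∀ n, n₀ ≤ n → ∀ p, 0 < p →
      IsZero ((Coh.Rpush f p).obj ((tF (CohB1.tensorPow L n)).obj N)) := by
  haveI := hN.1
  let J := QCoh.annIdeal N hN.2
  let i := J.subschemeι
  have hr : Set.range i = CohB1.support N := by
    rw [Scheme.IdealSheafData.range_subschemeι]; exact QCoh.coe_support_annIdeal N hN.2
  haveI := QCoh.isIso_unit_annIdeal N hN.2
  let η := asIso ((Scheme.Modules.pullbackPushforwardAdjunction i).unit.app N)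
  let N' := (Scheme.Modules.pullback i).obj N
  have hN' : Coh.IsCoh N' := QCoh.isCoh_of_pushforward i _ (QCoh.isCoh_of_iso η hN)
  haveI : IsProper (i ≫ f) := ProperOver.isProper_of_isProperOver f i (hr ▸ hs)
  haveI : HasInjectiveResolutions J.subscheme.Modules := RpushSupp20.hasInjectiveResolutions _
  let L' := (Scheme.Modules.pullback i).obj L
  have hL' : PicF.IsInvertible L' := Kleiman.isInv_pullback i hL
  have hamp' := NormAmple.isRelAmple_pullback (g := i) f hamp
  obtain ⟨n₀, hn₀⟩ := RelVanish.exists_isZero_Rpush (i ≫ f) hL' (fun W hW => hamp'.2 ⟨W, hW⟩) hN'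
  refine ⟨n₀, fun n hn p hp => ?_⟩
  let E := CohB1.tensorPow L n
  have hE := Ample.isInvertible_tensorPow hL n
  obtain ⟨e₂⟩ : Nonempty ((Scheme.Modules.pullback i).obj E ≅ CohB1.tensorPow L' n) :=
    (Cube.clsMod_eq_iff (Kleiman.isInv_pullback i hE) (Ample.isInvertible_tensorPow hL' n)).1 (by
      rw [Cube.clsMod_tensorPow hL', Cube.clsMod_pullback i hE, Cube.clsMod_pullback i hL,
        Cube.clsMod_tensorPow hL, map_pow])
  haveI := ProjFormula.isIso_projHom i (Euler.isFinLocFree_of_isInvertible hE) N'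
  let e₁ : (tF E).obj N ≅ (Scheme.Modules.pushforward i).obj (CohB1.tensorMod N' (CohB1.tensorPow L' n)) :=
    (tF E).mapIso η ≪≫
    ((OX.tensorBraiding (X := X)).app E).app _ ≪≫ asIso (ProjFormula.projHom i E N') ≪≫
      (Scheme.Modules.pushforward i).mapIso ((((OX.tensorBraiding (X := J.subscheme)).app _).app N').symm ≪≫
        ((DCoh.tensorBi (X := J.subscheme)).obj N').mapIso e₂)
  haveI : IsLocallyNoetherian J.subscheme := LocallyOfFiniteType.isLocallyNoetherian (i ≫ f)
  haveI : (CohB1.tensorMod N' (CohB1.tensorPow L' n)).IsQuasicoherent :=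
    (CMReg.isCoh_tensorMod hN' (Ample.isInvertible_tensorPow hL' n)).1
  obtain ⟨e₃⟩ := Cohom.nonempty_Rpush_pushforward_iso i f (CohB1.tensorMod N' (CohB1.tensorPow L' n)) p
  exact IsZero.of_iso (hn₀ n hn p hp) ((Coh.Rpush f p).mapIso e₁ ≪≫ e₃)

theorem exists_forall_exact (f : X ⟶ Y) [IsNoetherian Y] [LocallyOfFiniteType f]
    {L : X.Modules} (hL : PicF.IsInvertible L) (hamp : RelAmple.IsRelAmple f L) (C : ShortComplex X.Modules)
    (hC : C.Exact) (h1 : Coh.IsCoh C.X₁) (h2 : Coh.IsCoh C.X₂)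
    (hs1 : ClSub.IsProperOver f (CohB1.support C.X₁)) :
    ∃ N : ℕ, ∀ n : ℕ, N ≤ n →
      (C.map (tF (CohB1.tensorPow L n) ⋙ Coh.push f)).Exact := by
  haveI : HasInjectiveResolutions X.Modules := RpushSupp20.hasInjectiveResolutions _
  haveI : IsLocallyNoetherian X := LocallyOfFiniteType.isLocallyNoetherian f
  haveI := hamp.1
  have hK := QCoh.isCoh_kernel C.f h1 h2
  have hKs : ClSub.IsProperOver f (CohB1.support (kernel C.f)) :=
    ProperOver.IsProperOver.subset f hs1 (QCoh.isClosed_support_of_isCoh hK)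
      (QCoh.support_subset_of_mono (kernel.ι C.f))
  obtain ⟨n₀, hn₀⟩ := exists_isZero_Rpush f hL hamp hK hKs
  refine ⟨n₀, fun n hn => ?_⟩
  let E := CohB1.tensorPow L n
  have hE := Ample.isInvertible_tensorPow hL n
  have hflat := OX.flat_of_isFinLocFree (Euler.isFinLocFree_of_isInvertible hE)
  obtain ⟨hl, hr⟩ : PreservesFiniteLimits (tF E) ∧ PreservesFiniteColimits (tF E) :=
    (((tF E).exact_tfae.out 0 3
      (a := ∀ (T : ShortComplex X.Modules), T.ShortExact → (T.map (tF E)).ShortExact)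
      (b := PreservesFiniteLimits (tF E) ∧ PreservesFiniteColimits (tF E))).1
        fun T hT => OX.tensor_map_shortExact hflat hT)
  haveI := hl
  haveI := hr
  haveI : (Scheme.Modules.pushforward f).IsRightAdjoint :=
    (Scheme.Modules.pullbackPushforwardAdjunction f).isRightAdjoint
  haveI : PreservesFiniteLimits (Coh.push f) := inferInstanceAs (PreservesFiniteLimits (Scheme.Modules.pushforward f))
  haveI : (Coh.push f).PreservesZeroMorphisms := inferInstanceAs (Scheme.Modules.pushforward f).PreservesZeroMorphisms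
  let T₁ : ShortComplex X.Modules :=
    ShortComplex.mk (kernel.ι C.f) (factorThruImage C.f)
      ((cancel_mono (image.ι C.f)).1 (by rw [Category.assoc, image.fac, kernel.condition, zero_comp]))
  have hT₁ : T₁.ShortExact :=
    { exact := by
        refine ShortComplex.exact_of_f_is_kernel _ ?_
        exact isKernelOfComp (h := C.f) (image.ι C.f) (kernelIsKernel C.f) _ (image.fac C.f)
      mono_f := inferInstanceAs (Mono (kernel.ι C.f))
      epi_g := inferInstanceAs (Epi (factorThruImage C.f)) }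
  haveI := (Snapper.shortExact_twist hL n hT₁)
  have hz : ∀ W : Y.Opens, IsAffineOpen W → ∀ m, Subsingleton
      (Abelian.Ext.{u} (Cohom.freeFun.obj (f ⁻¹ᵁ W)) (Coh.toAb ((tF E).obj (kernel C.f))) (m + 1)) := by
    intro W hW m
    haveI : ((tF E).obj (kernel C.f)).IsQuasicoherent :=
      (CMReg.isCoh_tensorMod hK hE).1
    obtain ⟨e⟩ := Cohom.nonempty_HHon_equiv ((tF E).obj (kernel C.f)) (f ⁻¹ᵁ W) (m + 1)
    haveI := RelVanish.subsingleton_HHon_of_isZero_Rpush f ((tF E).obj (kernel C.f)) (m + 1) hW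
      (hn₀ n hn (m + 1) m.succ_pos)
    exact e.symm.toEquiv.subsingleton
  have hp : ((T₁.map (tF E)).map (Scheme.Modules.pushforward f)).ShortExact :=
    Cohom.pushforward_map_shortExact f (Snapper.shortExact_twist hL n hT₁) fun W hW m => hz W hW m
  let T₂ : ShortComplex X.Modules :=
    ShortComplex.mk (image.ι C.f) C.g (by
      rw [← cancel_epi (factorThruImage C.f), image.fac_assoc, C.zero, comp_zero])
  let φ : C ⟶ T₂ := { τ₁ := factorThruImage C.f, τ₂ := 𝟙 _, τ₃ := 𝟙 _ }
  haveI : Epi φ.τ₁ := inferInstanceAs (Epi (factorThruImage C.f))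
  haveI : IsIso φ.τ₂ := inferInstanceAs (IsIso (𝟙 _))
  haveI : Mono φ.τ₃ := inferInstanceAs (Mono (𝟙 _))
  have hT₂ : T₂.Exact := (ShortComplex.exact_iff_of_epi_of_isIso_of_mono φ).1 hC
  haveI : Mono T₂.f := inferInstanceAs (Mono (image.ι C.f))
  let G := tF E ⋙ Coh.push f
  have h₂ : (T₂.map G).Exact := hT₂.map_of_mono_of_preservesKernel G inferInstance inferInstance
  haveI : Epi (G.map φ.τ₁) := hp.epi_g
  haveI : Epi (G.mapShortComplex.map φ).τ₁ := ‹Epi (G.map φ.τ₁)›
  haveI : IsIso (G.mapShortComplex.map φ).τ₂ := inferInstanceAs (IsIso (G.map φ.τ₂))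
  haveI : Mono (G.mapShortComplex.map φ).τ₃ := inferInstanceAs (Mono (G.map (𝟙 _)))
  exact (ShortComplex.exact_iff_of_epi_of_isIso_of_mono (G.mapShortComplex.map φ)).2 h₂

end GrothLib.PSuppVan9
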